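import Groth.Agent.Lib.Ideal.Comap
import Groth.Prelude.Def_BlowUp2
import Mathlib.AlgebraicGeometry.Morphisms.Flat
import Mathlib.RingTheory.Flat.Localization

/-!
# Effective Cartier ideal sheaves: elementary properties
-/

universe u

open CategoryTheory AlgebraicGeometry TopologicalSpace Opposite

namespace Groth.Agent.Lib.Ideal.EffCartier

open Groth.Agent.Lib.Ideal.Comap

variable {X Y : Scheme.{u}}

theorem mem_nonZeroDivisors_of_flat {R S : Type*} [CommRing R] [CommRing S] {φ : R →+* S}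
    (hφ : φ.Flat) {x : R} (hx : x ∈ nonZeroDivisors R) : φ x ∈ nonZeroDivisors S := by
  algebraize [φ]
  have hreg : IsSMulRegular R x := fun a b hab => mul_cancel_left_mem_nonZeroDivisors hx |>.mp hab
  have h := IsSMulRegular.of_flat (S := S) hreg
  exact mem_nonZeroDivisors_iff.mpr ⟨fun b hb => h (by simpa [RingHom.algebraMap_toAlgebra] using hb),
    fun b hb => h (by simpa [RingHom.algebraMap_toAlgebra, mul_comm] using hb)⟩

theorem mem_nonZeroDivisors_of_eq_zero {R : Type*} [CommRing R] {a : R}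
    (h : ∀ b, a * b = 0 → b = 0) : a ∈ nonZeroDivisors R :=
  mem_nonZeroDivisors_iff.mpr ⟨h, fun b hb => h b (by rwa [mul_comm])⟩

theorem germ_mem_nonZeroDivisors {U : X.Opens} (hU : IsAffineOpen U) {f : Γ(X, U)}
    (hf : f ∈ nonZeroDivisors Γ(X, U)) (x : X) (hx : x ∈ U) :
    X.presheaf.germ U x hx f ∈ nonZeroDivisors (X.presheaf.stalk x) := by
  let alg := X.presheaf.algebra_section_stalk ⟨x, hx⟩
  haveI := hU.isLocalization_stalk ⟨x, hx⟩
  have hfl : Module.Flat Γ(X, U) (X.presheaf.stalk x) :=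
    IsLocalization.flat _ (hU.primeIdealOf ⟨x, hx⟩).asIdeal.primeCompl
  exact mem_nonZeroDivisors_of_flat (φ := algebraMap Γ(X, U) (X.presheaf.stalk x))
    (RingHom.flat_algebraMap_iff.mpr hfl) hf

theorem mem_nonZeroDivisors_of_germ {U : X.Opens} {f : Γ(X, U)}
    (hf : ∀ x (hx : x ∈ U), X.presheaf.germ U x hx f ∈ nonZeroDivisors (X.presheaf.stalk x)) :
    f ∈ nonZeroDivisors Γ(X, U) := by
  refine mem_nonZeroDivisors_of_eq_zero fun b hb => ?_
  refine TopCat.Presheaf.section_ext X.sheaf U b 0 fun x hx => ?_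
  change X.presheaf.germ U x hx b = X.presheaf.germ U x hx 0
  rw [map_zero]
  have := congrArg (X.presheaf.germ U x hx) hb
  rw [map_mul, map_zero] at this
  exact (mul_left_mem_nonZeroDivisors_eq_zero_iff (hf x hx)).mp this

theorem res_mem_nonZeroDivisors {U V : X.Opens} (hU : IsAffineOpen U)
    (h : V ≤ U) {f : Γ(X, U)} (hf : f ∈ nonZeroDivisors Γ(X, U)) :
    X.presheaf.map (homOfLE h).op f ∈ nonZeroDivisors Γ(X, V) := by
  refine mem_nonZeroDivisors_of_germ fun x hx => ?_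
  rw [TopCat.Presheaf.germ_res_apply]
  exact germ_mem_nonZeroDivisors hU hf x (h hx)

theorem ideal_eq_span_of_le {I : X.IdealSheafData} {U V : X.affineOpens} (h : V.1 ≤ U.1)
    {f : Γ(X, U.1)} (hf : I.ideal U = Ideal.span {f}) :
    I.ideal V = Ideal.span {X.presheaf.map (homOfLE h).op f} := by
  rw [← I.map_ideal h, hf, Ideal.map_span, Set.image_singleton]
  rfl

theorem mem_basicOpen_iff_notMem_prime {U : X.Opens} (hU : IsAffineOpen U) {x : X} (hx : x ∈ U)
    (c : Γ(X, U)) : x ∈ X.basicOpen c ↔ c ∉ (hU.primeIdealOf ⟨x, hx⟩).asIdeal := by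
  let alg := X.presheaf.algebra_section_stalk ⟨x, hx⟩
  haveI := hU.isLocalization_stalk ⟨x, hx⟩
  rw [X.mem_basicOpen c x hx]
  exact IsLocalization.AtPrime.isUnit_to_map_iff (X.presheaf.stalk x)
    (hU.primeIdealOf ⟨x, hx⟩).asIdeal c

/-- An effective Cartier ideal has arbitrarily small affine charts with a nonzerodivisor generator. -/
theorem exists_gen {I : X.IdealSheafData} (hI : BlowUp.IsEffCartierIdeal I) (x : X) {W : X.Opens}
    (hx : x ∈ W) :
    ∃ U : X.affineOpens, x ∈ U.1 ∧ U.1 ≤ W ∧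
      ∃ f : Γ(X, U.1), f ∈ nonZeroDivisors Γ(X, U.1) ∧ I.ideal U = Ideal.span {f} := by
  obtain ⟨U, hxU, f, hf, he⟩ := hI x
  obtain ⟨V, hV, hxV, hle⟩ := exists_isAffineOpen_mem_and_subset (show x ∈ U.1 ⊓ W from ⟨hxU, hx⟩)
  have h1 : V ≤ U.1 := fun y hy => (hle hy).1
  exact ⟨⟨V, hV⟩, hxV, fun y hy => (hle hy).2, _, res_mem_nonZeroDivisors U.2 h1 hf,
    ideal_eq_span_of_le (V := ⟨V, hV⟩) h1 he⟩

theorem isEffCartier_top : BlowUp.IsEffCartierIdeal (⊤ : X.IdealSheafData) := by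
  intro x
  obtain ⟨U, hU, hxU, -⟩ := exists_isAffineOpen_mem_and_subset (show x ∈ (⊤ : X.Opens) from trivial)
  exact ⟨⟨U, hU⟩, hxU, 1, Submonoid.one_mem _, by simp⟩

theorem isEffCartier_mul {I J : X.IdealSheafData} (hI : BlowUp.IsEffCartierIdeal I)
    (hJ : BlowUp.IsEffCartierIdeal J) : BlowUp.IsEffCartierIdeal (I * J) := by
  intro x
  obtain ⟨U, hxU, f, hf, he⟩ := hI x
  obtain ⟨V, hxV, hle, g, hg, hg'⟩ := exists_gen hJ x hxU
  refine ⟨V, hxV, _, Submonoid.mul_mem _ (res_mem_nonZeroDivisors U.2 hle hf) hg, ?_⟩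
  rw [Scheme.IdealSheafData.ideal_mul, Pi.mul_apply, ideal_eq_span_of_le hle he, hg',
    Ideal.span_singleton_mul_span_singleton]

theorem isEffCartier_pow {I : X.IdealSheafData} (hI : BlowUp.IsEffCartierIdeal I) (n : ℕ) :
    BlowUp.IsEffCartierIdeal (I ^ n) := by
  induction n with
  | zero => rw [pow_zero, Scheme.IdealSheafData.one_eq_top]; exact isEffCartier_top
  | succ n ih => rw [pow_succ]; exact isEffCartier_mul ih hI

theorem eq_span_of_mul_eq {R : Type*} [CommRing R] {I J : Ideal R} {f a b : R}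
    (hIJ : I * J = Ideal.span {f}) (hf : f ∈ nonZeroDivisors R) (ha : a ∈ I) (hb : b ∈ J) {c : R}
    (hc : IsUnit c) (hab : a * b = c * f) : a ∈ nonZeroDivisors R ∧ I = Ideal.span {a} := by
  have hnzd : a * b ∈ nonZeroDivisors R := hab ▸ Submonoid.mul_mem _ hc.mem_nonZeroDivisors hf
  rw [mul_mem_nonZeroDivisors] at hnzd
  refine ⟨hnzd.1, le_antisymm (fun a' ha' => ?_) ((Ideal.span_singleton_le_iff_mem _).mpr ha)⟩
  obtain ⟨d, hd⟩ : f ∣ a' * b := Ideal.mem_span_singleton.mp (hIJ ▸ Ideal.mul_mem_mul ha' hb)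
  obtain ⟨c', hc'⟩ := hc.exists_left_inv
  refine Ideal.mem_span_singleton.mpr ⟨d * c', ?_⟩
  apply (mul_cancel_right_mem_nonZeroDivisors hnzd.2).mp
  rw [hd]
  linear_combination (f * d) * (1 - c' * c) * 0 + (-d * c') * hab + (-(d * f)) * hc'

theorem isEffCartier_factor_left {I J : X.IdealSheafData} (h : BlowUp.IsEffCartierIdeal (I * J)) :
    BlowUp.IsEffCartierIdeal I := by
  intro x
  obtain ⟨U, hxU, f, hf, he⟩ := h x
  rw [Scheme.IdealSheafData.ideal_mul, Pi.mul_apply] at he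
  have key : ∃ a ∈ I.ideal U, ∃ b ∈ J.ideal U, ∃ c : Γ(X, U.1),
      a * b = c * f ∧ x ∈ X.basicOpen c := by
    by_contra hcon
    push Not at hcon
    set p := (U.2.primeIdealOf ⟨x, hxU⟩).asIdeal with hp
    have hle : I.ideal U * J.ideal U ≤ p * Ideal.span {f} := by
      rw [Ideal.mul_le]
      intro a ha b hb
      obtain ⟨c, hc⟩ := Ideal.mem_span_singleton'.mp (he ▸ Ideal.mul_mem_mul ha hb)
      rw [← hc]
      refine Ideal.mul_mem_mul ?_ (Ideal.mem_span_singleton_self f)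
      have hxc := hcon a ha b hb c hc.symm
      by_contra hcp
      exact hxc ((mem_basicOpen_iff_notMem_prime U.2 hxU c).mpr hcp)
    have hfmem : f ∈ p * Ideal.span {f} := hle (he ▸ Ideal.mem_span_singleton_self f)
    obtain ⟨q, hq, hqf⟩ := Ideal.mem_mul_span_singleton.mp hfmem
    have : q = 1 := (mul_cancel_right_mem_nonZeroDivisors hf).mp (hqf.trans (one_mul f).symm)
    exact (U.2.primeIdealOf ⟨x, hxU⟩).2.ne_top ((Ideal.eq_top_iff_one _).mpr (this ▸ hq))
  obtain ⟨a, ha, b, hb, c, habc, hxc⟩ := key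
  let V : X.affineOpens := ⟨X.basicOpen c, U.2.basicOpen c⟩
  have hle : V.1 ≤ U.1 := X.basicOpen_le c
  set r := X.presheaf.map (homOfLE hle).op with hr
  refine ⟨V, hxc, r a, ?_⟩
  refine eq_span_of_mul_eq (J := J.ideal V) (f := r f) (b := r b) (c := r c) ?_
    (res_mem_nonZeroDivisors U.2 hle hf) ?_ ?_ ?_ ?_
  · rw [← I.map_ideal hle, ← J.map_ideal hle, ← Ideal.map_mul, he, Ideal.map_span,
      Set.image_singleton]
    rfl
  · exact I.map_ideal hle ▸ Ideal.mem_map_of_mem _ ha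
  · exact J.map_ideal hle ▸ Ideal.mem_map_of_mem _ hb
  · exact RingedSpace.isUnit_res_basicOpen X.toSheafedSpace c
  · rw [← map_mul, ← map_mul, habc]

theorem isEffCartier_factor_right {I J : X.IdealSheafData}
    (h : BlowUp.IsEffCartierIdeal (I * J)) : BlowUp.IsEffCartierIdeal J :=
  isEffCartier_factor_left (mul_comm I J ▸ h)

/-- Pullback of an effective Cartier ideal: it suffices that local generators pull back to germwise
nonzerodivisors. -/
theorem isEffCartier_comap (f : X ⟶ Y) {I : Y.IdealSheafData} (hI : BlowUp.IsEffCartierIdeal I)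
    (h : ∀ (U : Y.affineOpens) (s : Γ(Y, U.1)), s ∈ nonZeroDivisors Γ(Y, U.1) →
      I.ideal U = Ideal.span {s} →
      ∀ x (hx : x ∈ f ⁻¹ᵁ U.1),
        X.presheaf.germ _ x hx (f.app U.1 s) ∈ nonZeroDivisors (X.presheaf.stalk x)) :
    BlowUp.IsEffCartierIdeal (I.comap f) := by
  intro x
  obtain ⟨U, hxU, -, s, hs, he⟩ := exists_gen hI (f x) (show f x ∈ (⊤ : Y.Opens) from trivial)
  obtain ⟨V, hV, hxV, hle'⟩ := exists_isAffineOpen_mem_and_subset
    (show x ∈ f ⁻¹ᵁ U.1 from hxU)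
  have hle : V ≤ f ⁻¹ᵁ U.1 := fun z hz => hle' hz
  refine ⟨⟨V, hV⟩, hxV, f.appLE U.1 V hle s, ?_, ?_⟩
  · refine mem_nonZeroDivisors_of_germ fun y hy => ?_
    change X.presheaf.germ V y hy (X.presheaf.map (homOfLE hle).op (f.app U.1 s)) ∈ _
    rw [TopCat.Presheaf.germ_res_apply]
    exact h U s hs he y (hle hy)
  · rw [ideal_comap f I U ⟨V, hV⟩ hle, he, Ideal.map_span, Set.image_singleton]

theorem germ_app_mem_nonZeroDivisors_of_flat (f : X ⟶ Y) {U : Y.Opens} (s : Γ(Y, U)) (x : X)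
    (hx : x ∈ f ⁻¹ᵁ U) (hfl : (f.stalkMap x).hom.Flat)
    (hs : Y.presheaf.germ U (f x) hx s ∈ nonZeroDivisors (Y.presheaf.stalk (f x))) :
    X.presheaf.germ _ x hx (f.app U s) ∈ nonZeroDivisors (X.presheaf.stalk x) := by
  exact Scheme.Hom.germ_stalkMap_apply f U x hx s ▸ mem_nonZeroDivisors_of_flat hfl hs

theorem isEffCartier_comap_of_flat (f : X ⟶ Y) [Flat f] {I : Y.IdealSheafData}
    (hI : BlowUp.IsEffCartierIdeal I) : BlowUp.IsEffCartierIdeal (I.comap f) :=
  isEffCartier_comap f hI fun U s hs _ x hx =>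
    germ_app_mem_nonZeroDivisors_of_flat f s x hx (Flat.stalkMap f x)
      (germ_mem_nonZeroDivisors U.2 hs (f x) hx)

theorem comap_eq_top_of_disjoint (f : X ⟶ Y) {I : Y.IdealSheafData}
    (h : ∀ x, f x ∉ I.support) : I.comap f = ⊤ := by
  rw [← Scheme.IdealSheafData.support_eq_bot_iff, Scheme.IdealSheafData.support_comap]
  ext x
  exact iff_of_false (h x) (fun h' => h')

theorem isEffCartier_comap_of_disjoint (f : X ⟶ Y) {I : Y.IdealSheafData}
    (h : ∀ x, f x ∉ I.support) : BlowUp.IsEffCartierIdeal (I.comap f) :=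
  comap_eq_top_of_disjoint f h ▸ isEffCartier_top

/-- A section vanishing off an effective Cartier divisor vanishes. -/
theorem eq_zero_of_germ_eq_zero_off {I : X.IdealSheafData} (hI : BlowUp.IsEffCartierIdeal I)
    {W : X.Opens} (t : Γ(X, W))
    (h : ∀ x (hx : x ∈ W), x ∉ I.support → X.presheaf.germ W x hx t = 0) : t = 0 := by
  refine TopCat.Presheaf.section_ext X.sheaf W t 0 fun x hx => ?_
  change X.presheaf.germ W x hx t = X.presheaf.germ W x hx 0
  rw [map_zero]
  obtain ⟨U, hxU, hle, e, he, hIe⟩ := exists_gen hI x hx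
  suffices h0 : X.presheaf.map (homOfLE hle).op t = 0 by
    rw [← TopCat.Presheaf.germ_res_apply X.presheaf (homOfLE hle) x hxU, h0, map_zero]
  haveI := U.2.isLocalization_basicOpen e
  have hres : algebraMap Γ(X, U.1) Γ(X, X.basicOpen e) (X.presheaf.map (homOfLE hle).op t) = 0 := by
    change X.presheaf.map (homOfLE (X.basicOpen_le e)).op (X.presheaf.map (homOfLE hle).op t) = 0
    refine TopCat.Presheaf.section_ext X.sheaf _ _ 0 fun y hy => ?_
    change X.presheaf.germ _ y hy _ = X.presheaf.germ _ y hy 0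
    rw [map_zero, TopCat.Presheaf.germ_res_apply, TopCat.Presheaf.germ_res_apply]
    refine h y _ fun hys => ?_
    have hy' : y ∈ X.zeroLocus (I.ideal U : Set Γ(X, U.1)) :=
      ((Scheme.IdealSheafData.mem_support_iff_of_mem (X.basicOpen_le e hy)).mp hys)
    exact (X.mem_zeroLocus_iff _ _).mp hy' e (hIe ▸ Ideal.mem_span_singleton_self e) hy
  obtain ⟨⟨m, n, rfl⟩, hm⟩ := (IsLocalization.map_eq_zero_iff (Submonoid.powers e) _ _).mp hres
  exact (mul_left_mem_nonZeroDivisors_eq_zero_iff (pow_mem he n)).mp hm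

/-- A section whose germs are nonzerodivisors off an effective Cartier divisor has this property
everywhere. -/
theorem germ_mem_nonZeroDivisors_of_off {I : X.IdealSheafData} (hI : BlowUp.IsEffCartierIdeal I)
    {W : X.Opens} (s : Γ(X, W))
    (h : ∀ x (hx : x ∈ W), x ∉ I.support →
      X.presheaf.germ W x hx s ∈ nonZeroDivisors (X.presheaf.stalk x))
    (x : X) (hx : x ∈ W) : X.presheaf.germ W x hx s ∈ nonZeroDivisors (X.presheaf.stalk x) := by
  obtain ⟨U, hU, hxU, hle⟩ := exists_isAffineOpen_mem_and_subset hx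
  rw [← TopCat.Presheaf.germ_res_apply X.presheaf (homOfLE (show U ≤ W from hle)) x hxU]
  refine germ_mem_nonZeroDivisors hU (mem_nonZeroDivisors_of_eq_zero fun b hb => ?_) x hxU
  refine eq_zero_of_germ_eq_zero_off hI b fun y hy hys => ?_
  have := congrArg (X.presheaf.germ U y hy) hb
  rw [map_mul, map_zero, TopCat.Presheaf.germ_res_apply] at this
  exact (mul_left_mem_nonZeroDivisors_eq_zero_iff (h y (hle hy) hys)).mp this

end Groth.Agent.Lib.Ideal.EffCartier
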