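import Groth.Agent.Lib.AssPt.Basic
import Mathlib.AlgebraicGeometry.IdealSheaf.Subscheme
import Mathlib.AlgebraicGeometry.Noetherian
import Mathlib.RingTheory.Ideal.Height
import Mathlib.RingTheory.Ideal.KrullsHeightTheorem
import Mathlib.RingTheory.Filtration

/-!
# Integral closed subschemes on affine opens; prime divisors
-/

universe u

open CategoryTheory AlgebraicGeometry TopologicalSpace Opposite

namespace Groth.Agent.Lib.Ideal.Prime

open Groth.Agent.Lib.Ideal.EffCartier Groth.Agent.Lib.AssPt.Basic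

variable {X : Scheme.{u}}

/-- The stalk of an ideal sheaf. -/
noncomputable def stalkIdeal (I : X.IdealSheafData) (x : X) : Ideal (X.presheaf.stalk x) :=
  ⨆ (U : X.affineOpens) (hx : x ∈ U.1), (I.ideal U).map (X.presheaf.germ U.1 x hx).hom

theorem map_germ_of_le (I : X.IdealSheafData) {U V : X.affineOpens} (h : V.1 ≤ U.1) {x : X}
    (hx : x ∈ V.1) :
    (I.ideal U).map (X.presheaf.germ U.1 x (h hx)).hom =
      (I.ideal V).map (X.presheaf.germ V.1 x hx).hom := by
  rw [← I.map_ideal h, Ideal.map_map, ← CommRingCat.hom_comp]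
  exact congrArg (fun φ => (I.ideal U).map (CommRingCat.Hom.hom φ))
    (TopCat.Presheaf.germ_res X.presheaf (homOfLE h) x hx).symm

theorem stalkIdeal_eq (I : X.IdealSheafData) (U : X.affineOpens) {x : X} (hx : x ∈ U.1) :
    stalkIdeal I x = (I.ideal U).map (X.presheaf.germ U.1 x hx).hom := by
  refine le_antisymm (iSup₂_le fun V hxV => ?_) (le_iSup₂_of_le U hx le_rfl)
  obtain ⟨W, hW, hxW, hle⟩ := exists_isAffineOpen_mem_and_subset
    (show x ∈ U.1 ⊓ V.1 from ⟨hx, hxV⟩)
  have h1 : W ≤ U.1 := fun z hz => (hle hz).1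
  have h2 : W ≤ V.1 := fun z hz => (hle hz).2
  rw [map_germ_of_le I (U := V) (V := ⟨W, hW⟩) h2 hxW,
    ← map_germ_of_le I (U := U) (V := ⟨W, hW⟩) h1 hxW]

theorem mem_support_iff_le_prime (I : X.IdealSheafData) (U : X.affineOpens) {x : X}
    (hx : x ∈ U.1) :
    x ∈ I.support ↔ I.ideal U ≤ (U.2.primeIdealOf ⟨x, hx⟩).asIdeal := by
  rw [Scheme.IdealSheafData.mem_support_iff_of_mem hx, Scheme.mem_zeroLocus_iff]
  refine forall_congr' fun f => ?_
  simp only [SetLike.mem_coe]
  rw [mem_basicOpen_iff_notMem_prime U.2 hx, not_not]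

/-- The generic point of an integral closed subscheme. -/
noncomputable def gen (I : X.IdealSheafData) [IsIntegral I.subscheme] : X :=
  I.subschemeι (genericPoint ↥I.subscheme)

theorem gen_mem (I : X.IdealSheafData) [IsIntegral I.subscheme] : gen I ∈ I.support := by
  have : gen I ∈ Set.range I.subschemeι := ⟨_, rfl⟩
  rw [I.range_subschemeι] at this
  exact this

theorem gen_specializes (I : X.IdealSheafData) [IsIntegral I.subscheme] {x : X}
    (hx : x ∈ I.support) : gen I ⤳ x := by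
  have hx' : x ∈ Set.range I.subschemeι := by rw [I.range_subschemeι]; exact hx
  obtain ⟨z, rfl⟩ := hx'
  exact ((genericPoint_spec ↥I.subscheme).specializes (Set.mem_univ z)).map I.subschemeι.continuous

theorem isPrime_ideal (I : X.IdealSheafData) [IsIntegral I.subscheme] (U : X.affineOpens)
    (h : ∃ x ∈ I.support, x ∈ U.1) : (I.ideal U).IsPrime := by
  obtain ⟨x, hx, hxU⟩ := h
  have hx' : x ∈ Set.range I.subschemeι := by rw [I.range_subschemeι]; exact hx
  obtain ⟨z, rfl⟩ := hx'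
  haveI : Nonempty (I.subschemeι ⁻¹ᵁ U.1 : I.subscheme.Opens) := ⟨⟨z, hxU⟩⟩
  haveI : IsDomain Γ(I.subscheme, I.subschemeι ⁻¹ᵁ U.1) := IsIntegral.component_integral _
  haveI : IsDomain (Γ(X, U.1) ⧸ I.ideal U) :=
    (I.subschemeObjIso U).commRingCatIsoToRingEquiv.symm.toMulEquiv.isDomain
  exact (Ideal.Quotient.isDomain_iff_prime _).mp inferInstance

theorem primeIdealOf_gen (I : X.IdealSheafData) [IsIntegral I.subscheme] (U : X.affineOpens)
    (h : gen I ∈ U.1) : (U.2.primeIdealOf ⟨gen I, h⟩).asIdeal = I.ideal U := by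
  haveI := isPrime_ideal I U ⟨_, gen_mem I, h⟩
  obtain ⟨y, hy, he⟩ := exists_point_of_prime U.2 (I.ideal U)
  have hys : y ∈ I.support := (mem_support_iff_le_prime I U hy).mpr he.ge
  refine le_antisymm ?_ ((mem_support_iff_le_prime I U h).mp (gen_mem I))
  rw [← he]
  exact (specializes_iff_primeIdealOf U.2 hy h).mp (gen_specializes I hys)

theorem ringKrullDim_stalk_eq_height {U : X.Opens} (hU : IsAffineOpen U) {x : X} (hx : x ∈ U) :
    ringKrullDim (X.presheaf.stalk x) = (hU.primeIdealOf ⟨x, hx⟩).asIdeal.height := by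
  let algx := X.presheaf.algebra_section_stalk ⟨x, hx⟩
  haveI := hU.isLocalization_stalk ⟨x, hx⟩
  exact IsLocalization.AtPrime.ringKrullDim_eq_height _ _

theorem ringKrullDim_stalk_mono {x y : X} (h : y ⤳ x) :
    ringKrullDim (X.presheaf.stalk y) ≤ ringKrullDim (X.presheaf.stalk x) := by
  obtain ⟨U, hU, hxU, -⟩ := exists_isAffineOpen_mem_and_subset
    (show x ∈ (⊤ : X.Opens) from trivial)
  have hy : y ∈ U := h.mem_open U.isOpen hxU
  rw [ringKrullDim_stalk_eq_height hU hxU, ringKrullDim_stalk_eq_height hU hy]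
  exact WithBot.coe_le_coe.mpr
    (Ideal.height_mono ((specializes_iff_primeIdealOf hU hxU hy).mp h))

/-- Every point of a closed set has a maximal generisation inside the set. -/
theorem exists_maximal_generization {A : Set X} (hA : IsClosed A) {x : X} (hx : x ∈ A) :
    ∃ z ∈ A, z ⤳ x ∧ ∀ w ∈ A, w ⤳ z → w = z := by
  obtain ⟨U, hU, hxU, -⟩ := exists_isAffineOpen_mem_and_subset
    (show x ∈ (⊤ : X.Opens) from trivial)
  obtain ⟨K, hK⟩ := (PrimeSpectrum.isClosed_iff_zeroLocus_ideal _).mp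
    (hA.preimage hU.fromSpec.continuous)
  have hiff : ∀ (w : X) (hw : w ∈ U), w ∈ A ↔ K ≤ (hU.primeIdealOf ⟨w, hw⟩).asIdeal := by
    intro w hw
    have : hU.fromSpec (hU.primeIdealOf ⟨w, hw⟩) ∈ A ↔ w ∈ A := by
      rw [hU.fromSpec_primeIdealOf]
    rw [← this]
    exact (Set.ext_iff.mp hK (hU.primeIdealOf ⟨w, hw⟩)).trans
      ((PrimeSpectrum.mem_zeroLocus _ _).trans SetLike.coe_subset_coe)
  obtain ⟨q, hq, hqle⟩ := Ideal.exists_minimalPrimes_le ((hiff x hxU).mp hx)
  haveI : q.IsPrime := hq.1.1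
  obtain ⟨z, hz, rfl⟩ := exists_point_of_prime hU q
  refine ⟨z, (hiff z hz).mpr hq.1.2, (specializes_iff_primeIdealOf hU hxU hz).mpr hqle,
    fun w hwA hwz => ?_⟩
  have hw : w ∈ U := hwz.mem_open U.isOpen hz
  have h1 := (specializes_iff_primeIdealOf hU hz hw).mp hwz
  have h2 := hq.2 ⟨(hU.primeIdealOf ⟨w, hw⟩).2, (hiff w hw).mp hwA⟩ h1
  have := congrArg hU.fromSpec (PrimeSpectrum.ext (le_antisymm h1 h2))
  rwa [hU.fromSpec_primeIdealOf, hU.fromSpec_primeIdealOf] at this

theorem not_maximalPoint_of_mem_support {I : X.IdealSheafData} (hI : BlowUp.IsEffCartierIdeal I)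
    {x : X} (hx : x ∈ I.support) : ¬ ∀ y : X, y ⤳ x → y = x := by
  intro hmax
  obtain ⟨U, hxU, e, he, hIe⟩ := hI x
  have hu := isUnit_of_nzd_of_maximalPoint e hxU (germ_mem_nonZeroDivisors U.2 he x hxU) hmax
  exact ((X.mem_zeroLocus_iff _ _).mp ((Scheme.IdealSheafData.mem_support_iff_of_mem hxU).mp hx))
    e (hIe ▸ Ideal.mem_span_singleton_self e) ((X.mem_basicOpen e x hxU).mpr hu)

section Divisor

variable (I : X.IdealSheafData) [IsIntegral I.subscheme] (hI : BlowUp.IsEffCartierIdeal I)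
include hI

theorem height_gen [IsLocallyNoetherian X] {U : X.Opens} (hU : IsAffineOpen U) (h : gen I ∈ U) :
    (hU.primeIdealOf ⟨gen I, h⟩).asIdeal.height = 1 := by
  refine le_antisymm ?_ ?_
  · obtain ⟨V, hxV, e, he, hIe⟩ := hI (gen I)
    haveI : IsNoetherianRing Γ(X, V.1) := IsLocallyNoetherian.component_noetherian V
    have hd := (ringKrullDim_stalk_eq_height hU h).symm.trans
      (ringKrullDim_stalk_eq_height V.2 hxV)
    rw [WithBot.coe_inj] at hd
    rw [hd, primeIdealOf_gen I V hxV, hIe]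
    haveI : (Ideal.span {e}).IsPrime :=
      hIe ▸ isPrime_ideal I V ⟨_, gen_mem I, hxV⟩
    exact Ideal.height_le_one_of_isPrincipal_of_mem_minimalPrimes (Ideal.span {e})
      (Ideal.span {e}) (by rw [Ideal.minimalPrimes_eq_subsingleton_self]; rfl)
  · rw [Order.one_le_iff_ne_zero, Ne, Ideal.height_eq_zero_iff,
      ← maximalPoint_iff_minimalPrime hU h]
    exact not_maximalPoint_of_mem_support hI (gen_mem I)

theorem maximalPoint_of_specializes_gen [IsLocallyNoetherian X] {y : X} (h : y ⤳ gen I)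
    (hne : y ≠ gen I) : ∀ z : X, z ⤳ y → z = y := by
  obtain ⟨U, hU, hU', -⟩ := exists_isAffineOpen_mem_and_subset
    (show gen I ∈ (⊤ : X.Opens) from trivial)
  haveI : IsNoetherianRing Γ(X, U) := IsLocallyNoetherian.component_noetherian ⟨U, hU⟩
  have hy : y ∈ U := h.mem_open U.isOpen hU'
  rw [maximalPoint_iff_minimalPrime hU hy, ← Ideal.height_eq_zero_iff, ← Order.lt_one_iff,
    ← height_gen I hI hU hU']
  refine Ideal.height_strict_mono_of_isPrime (lt_of_le_of_ne
    ((specializes_iff_primeIdealOf hU hU' hy).mp h) fun he => hne ?_)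
  have := congrArg hU.fromSpec (PrimeSpectrum.ext he)
  rwa [hU.fromSpec_primeIdealOf, hU.fromSpec_primeIdealOf] at this

theorem gen_eq_of_gen_mem {J : X.IdealSheafData} [IsIntegral J.subscheme] [IsLocallyNoetherian X]
    (hJ : BlowUp.IsEffCartierIdeal J) (h : gen I ∈ J.support) : gen J = gen I := by
  by_contra hne
  exact not_maximalPoint_of_mem_support hJ (gen_mem J)
    (maximalPoint_of_specializes_gen I hI (gen_specializes J h) hne)

theorem two_le_dim_of_mem_support [IsLocallyNoetherian X] {x : X} (hx : x ∈ I.support)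
    (hne : x ≠ gen I) : (2 : WithBot ℕ∞) ≤ ringKrullDim (X.presheaf.stalk x) := by
  obtain ⟨U, hU, hxU, -⟩ := exists_isAffineOpen_mem_and_subset
    (show x ∈ (⊤ : X.Opens) from trivial)
  haveI : IsNoetherianRing Γ(X, U) := IsLocallyNoetherian.component_noetherian ⟨U, hU⟩
  have hgx := gen_specializes I hx
  have hg : gen I ∈ U := hgx.mem_open U.isOpen hxU
  have hlt : (hU.primeIdealOf ⟨gen I, hg⟩).asIdeal < (hU.primeIdealOf ⟨x, hxU⟩).asIdeal := by
    refine lt_of_le_of_ne ((specializes_iff_primeIdealOf hU hxU hg).mp hgx) fun he => hne ?_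
    have := congrArg hU.fromSpec (PrimeSpectrum.ext he)
    rw [hU.fromSpec_primeIdealOf, hU.fromSpec_primeIdealOf] at this
    exact this.symm
  have h2 := Order.add_one_le_of_lt (Ideal.height_strict_mono_of_isPrime hlt)
  rw [height_gen I hI hU hg] at h2
  rw [ringKrullDim_stalk_eq_height hU hxU]
  exact WithBot.coe_le_coe.mpr (le_of_eq_of_le one_add_one_eq_two.symm h2)

theorem exists_stalkIdeal_eq_pow [IsLocallyNoetherian X] (J : X.IdealSheafData)
    (hJ : ∀ y, y ⤳ gen I → y ≠ gen I → y ∉ J.support) :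
    ∃ n : ℕ, stalkIdeal J (gen I) = stalkIdeal I (gen I) ^ n := by
  obtain ⟨U, hxU, e, he, hIe⟩ := hI (gen I)
  haveI : IsNoetherianRing Γ(X, U.1) := IsLocallyNoetherian.component_noetherian U
  let algx := X.presheaf.algebra_section_stalk ⟨gen I, hxU⟩
  haveI := U.2.isLocalization_stalk ⟨gen I, hxU⟩
  haveI : IsNoetherianRing (X.presheaf.stalk (gen I)) :=
    IsLocalization.isNoetherianRing (U.2.primeIdealOf ⟨gen I, hxU⟩).asIdeal.primeCompl _ inferInstance
  set t : X.presheaf.stalk (gen I) := algebraMap Γ(X, U.1) (X.presheaf.stalk (gen I)) e with ht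
  have hmax : IsLocalRing.maximalIdeal (X.presheaf.stalk (gen I)) = Ideal.span {t} := by
    rw [← IsLocalization.AtPrime.map_eq_maximalIdeal (U.2.primeIdealOf ⟨gen I, hxU⟩).asIdeal (X.presheaf.stalk (gen I)),
      primeIdealOf_gen I U hxU, hIe, Ideal.map_span, Set.image_singleton]
  have hIs : stalkIdeal I (gen I) = Ideal.span {t} := by
    rw [stalkIdeal_eq I U hxU, hIe, Ideal.map_span, Set.image_singleton]
    rfl
  set K := stalkIdeal J (gen I) with hK
  have hK0 : K ≠ ⊥ := by
    intro h0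
    obtain ⟨y, hy⟩ := not_forall.mp (not_maximalPoint_of_mem_support hI (gen_mem I))
    push Not at hy
    have hyU : y ∈ U.1 := hy.1.mem_open U.1.isOpen hxU
    refine hJ y hy.1 hy.2 ((mem_support_iff_le_prime J U hyU).mpr fun r hr => ?_)
    have hr0 : algebraMap Γ(X, U.1) (X.presheaf.stalk (gen I)) r = 0 := by
      rw [← Ideal.mem_bot, ← h0, hK, stalkIdeal_eq J U hxU]
      exact Ideal.mem_map_of_mem _ hr
    obtain ⟨⟨c, hc⟩, hcr⟩ := (IsLocalization.map_eq_zero_iff
      (U.2.primeIdealOf ⟨gen I, hxU⟩).asIdeal.primeCompl (X.presheaf.stalk (gen I)) r).mp hr0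
    exact ((U.2.primeIdealOf ⟨y, hyU⟩).2.mem_or_mem
      (show c * r ∈ _ from hcr ▸ zero_mem _)).resolve_left
        fun h => hc ((specializes_iff_primeIdealOf U.2 hxU hyU).mp hy.1 h)
  have hex : ∃ m : ℕ, ¬ K ≤ IsLocalRing.maximalIdeal (X.presheaf.stalk (gen I)) ^ m := by
    by_contra hcon
    push Not at hcon
    refine hK0 (le_bot_iff.mp ((le_iInf hcon).trans ?_))
    exact (Ideal.iInf_pow_eq_bot_of_isLocalRing _ (IsLocalRing.maximalIdeal.isMaximal (X.presheaf.stalk (gen I))).ne_top).le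
  classical
  obtain ⟨n, hn⟩ : ∃ n, Nat.find hex = n + 1 := by
    refine Nat.exists_eq_succ_of_ne_zero fun h0 => ?_
    have := Nat.find_spec hex
    rw [h0, pow_zero, Ideal.one_eq_top] at this
    exact this le_top
  refine ⟨n, ?_⟩
  have hle : K ≤ IsLocalRing.maximalIdeal (X.presheaf.stalk (gen I)) ^ n :=
    not_not.mp (Nat.find_min hex (by omega))
  have hnot : ¬ K ≤ IsLocalRing.maximalIdeal (X.presheaf.stalk (gen I)) ^ (n + 1) := hn ▸ Nat.find_spec hex
  rw [hIs, ← hmax]
  refine le_antisymm hle ?_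
  obtain ⟨g, hgK, hg⟩ := SetLike.not_le_iff_exists.mp hnot
  have hgn := hle hgK
  rw [hmax, Ideal.span_singleton_pow, Ideal.mem_span_singleton'] at hgn
  obtain ⟨c, rfl⟩ := hgn
  have hc : IsUnit c := by
    by_contra hc
    have hcm : c ∈ IsLocalRing.maximalIdeal (X.presheaf.stalk (gen I)) := hc
    refine hg ?_
    rw [pow_succ']
    refine Ideal.mul_mem_mul hcm ?_
    rw [hmax, Ideal.span_singleton_pow]
    exact Ideal.mem_span_singleton_self _
  rw [hmax, Ideal.span_singleton_pow, Ideal.span_singleton_le_iff_mem]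
  exact (Ideal.unit_mul_mem_iff_mem K hc).mp hgK

end Divisor

end Groth.Agent.Lib.Ideal.Prime
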