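import Mathlib.AlgebraicGeometry.IdealSheaf.Functorial
import Mathlib.AlgebraicGeometry.AffineScheme

/-!
# The inverse image ideal sheaf on affine opens

`ideal_comap`: for affine opens `V ⊆ f ⁻¹ U`, `(I.comap f)(V)` is the extension of `I(U)`.
-/

universe u

open CategoryTheory AlgebraicGeometry TopologicalSpace Opposite

namespace Groth.Agent.Lib.Ideal.Comap

variable {X Y Z : Scheme.{u}}

theorem ideal_comap_top [IsAffine X] [IsAffine Y] (g : X ⟶ Y) (I : Y.IdealSheafData) :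
    (I.comap g).ideal ⟨⊤, isAffineOpen_top X⟩ =
      Ideal.map g.appTop.hom (I.ideal ⟨⊤, isAffineOpen_top Y⟩) := by
  haveI : IsAffineHom g := inferInstance
  apply le_antisymm
  · have h : I.comap g ≤ Scheme.IdealSheafData.ofIdealTop
        (Ideal.map g.appTop.hom (I.ideal ⟨⊤, isAffineOpen_top Y⟩)) := by
      rw [← Scheme.IdealSheafData.le_map_iff_comap_le]
      refine Scheme.IdealSheafData.le_of_isAffine ?_
      rw [Scheme.IdealSheafData.ideal_map_of_isAffineHom]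
      rw [← Ideal.map_le_iff_le_comap]
      refine le_of_le_of_eq le_rfl ?_
      exact (Scheme.IdealSheafData.equivOfIsAffine.right_inv _).symm
    refine le_trans (h _) (le_of_eq ?_)
    exact Scheme.IdealSheafData.equivOfIsAffine.right_inv _
  · rw [Ideal.map_le_iff_le_comap]
    refine le_trans (Scheme.IdealSheafData.le_map_comap (J := I) (f := g) ⟨⊤, isAffineOpen_top Y⟩) ?_
    rw [Scheme.IdealSheafData.ideal_map_of_isAffineHom]
    exact le_rfl

/-- The ideal of the restriction of `J` to an affine open `U`. -/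
theorem ideal_comap_ι_top (U : X.affineOpens) (J : X.IdealSheafData) :
    haveI : IsAffine (U.1 : Scheme.{u}) := U.2
    (J.comap U.1.ι).ideal ⟨⊤, isAffineOpen_top _⟩ = Ideal.map U.1.topIso.inv.hom (J.ideal U) := by
  haveI : IsAffine (U.1 : Scheme.{u}) := U.2
  rw [Scheme.IdealSheafData.ideal_comap_of_isOpenImmersion, Scheme.Opens.ι_appIso]
  simp only [Iso.refl_inv, CommRingCat.hom_id, Ideal.comap_id]
  symm
  rw [Scheme.Opens.topIso_inv]
  exact J.map_ideal' (U := ⟨U.1.ι ''ᵁ ⊤, (isAffineOpen_top _).image_of_isOpenImmersion U.1.ι⟩) _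

/-- **The inverse image ideal on affine opens.** -/
theorem ideal_comap (f : X ⟶ Y) (I : Y.IdealSheafData) (U : Y.affineOpens) (V : X.affineOpens)
    (e : V.1 ≤ f ⁻¹ᵁ U.1) :
    (I.comap f).ideal V = Ideal.map (f.appLE U.1 V.1 e).hom (I.ideal U) := by
  haveI : IsAffine (U.1 : Scheme.{u}) := U.2
  haveI : IsAffine (V.1 : Scheme.{u}) := V.2
  have h1 : (I.comap f).comap V.1.ι = (I.comap U.1.ι).comap (f.resLE U.1 V.1 e) := by
    rw [← Scheme.IdealSheafData.comap_comp, ← Scheme.IdealSheafData.comap_comp,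
      Scheme.Hom.resLE_comp_ι]
  have h2 := congrArg (fun J : (V.1 : Scheme.{u}).IdealSheafData => J.ideal ⟨⊤, isAffineOpen_top _⟩) h1
  simp only at h2
  rw [ideal_comap_top (f.resLE U.1 V.1 e), ideal_comap_ι_top V, ideal_comap_ι_top U] at h2
  have h3 := congrArg (Ideal.map V.1.topIso.hom.hom) h2
  rw [Ideal.map_map, ← CommRingCat.hom_comp, Iso.inv_hom_id, CommRingCat.hom_id, Ideal.map_id] at h3
  rw [h3, Ideal.map_map, Ideal.map_map, ← CommRingCat.hom_comp, ← CommRingCat.hom_comp]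
  congr 2
  change (U.1.topIso.inv ≫ (f.resLE U.1 V.1 e).app ⊤) ≫ V.1.topIso.hom = _
  have h4 : ((f.resLE U.1 V.1 e).app ⊤ : Γ((U.1 : Scheme.{u}), ⊤) ⟶ Γ((V.1 : Scheme.{u}), ⊤)) =
      U.1.topIso.hom ≫ f.appLE U.1 V.1 e ≫ V.1.topIso.inv := Scheme.Hom.resLE_app_top f e
  refine (congrArg (fun φ : Γ((U.1 : Scheme.{u}), ⊤) ⟶ Γ((V.1 : Scheme.{u}), ⊤) =>
    (U.1.topIso.inv ≫ φ) ≫ V.1.topIso.hom) h4).trans ?_
  simp only [Category.assoc, Iso.inv_hom_id_assoc, Iso.inv_hom_id, Category.comp_id]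

/-- Every point has an affine neighbourhood mapping into some affine open, inside any given open. -/
theorem exists_affine_le_preimage (f : X ⟶ Y) (x : X) {W : X.Opens} (hx : x ∈ W)
    {U : Y.Opens} (hU : f x ∈ U) :
    ∃ (U' : Y.affineOpens) (V : X.affineOpens), f x ∈ U'.1 ∧ x ∈ V.1 ∧ U'.1 ≤ U ∧ V.1 ≤ W ∧
      V.1 ≤ f ⁻¹ᵁ U'.1 := by
  obtain ⟨U', hU', hxU', hle⟩ := exists_isAffineOpen_mem_and_subset hU
  obtain ⟨V, hV, hxV, hVle⟩ := exists_isAffineOpen_mem_and_subset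
    (show x ∈ W ⊓ f ⁻¹ᵁ U' from ⟨hx, hxU'⟩)
  exact ⟨⟨U', hU'⟩, ⟨V, hV⟩, hxU', hxV, hle, fun y hy => (hVle hy).1, fun y hy => (hVle hy).2⟩

/-- Two inverse-image computations agree as soon as they agree on all affine pairs. -/
theorem ext_of_affine_pairs (f : X ⟶ Y) {A B : X.IdealSheafData}
    (h : ∀ (U : Y.affineOpens) (V : X.affineOpens), V.1 ≤ f ⁻¹ᵁ U.1 → A.ideal V = B.ideal V) :
    A = B := by
  refine Scheme.IdealSheafData.ext_of_iSup_eq_top
    (fun p : {p : Y.affineOpens × X.affineOpens // p.2.1 ≤ f ⁻¹ᵁ p.1.1} => p.1.2) ?_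
    (fun p => h p.1.1 p.1.2 p.2)
  refine eq_top_iff.mpr fun x _ => ?_
  obtain ⟨U, V, -, hxV, -, -, hle⟩ :=
    exists_affine_le_preimage f x (show x ∈ (⊤ : X.Opens) from trivial)
      (show f x ∈ (⊤ : Y.Opens) from trivial)
  exact Opens.mem_iSup.mpr ⟨⟨(U, V), hle⟩, hxV⟩

theorem comap_mul (f : X ⟶ Y) (I J : Y.IdealSheafData) :
    (I * J).comap f = I.comap f * J.comap f := by
  refine ext_of_affine_pairs f fun U V e => ?_
  simp only [Scheme.IdealSheafData.ideal_mul, Pi.mul_apply, ideal_comap f _ U V e, Ideal.map_mul]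

theorem comap_pow (f : X ⟶ Y) (I : Y.IdealSheafData) (n : ℕ) :
    (I ^ n).comap f = I.comap f ^ n := by
  refine ext_of_affine_pairs f fun U V e => ?_
  simp only [Scheme.IdealSheafData.ideal_pow, Pi.pow_apply, ideal_comap f _ U V e, Ideal.map_pow]

end Groth.Agent.Lib.Ideal.Comap
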