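import Groth.Agent.Lib.Ideal.EffCartier

/-!
# Formal consequences of the universal property of blowing up
-/

universe u

open CategoryTheory CategoryTheory.Limits AlgebraicGeometry TopologicalSpace Opposite

namespace Groth.Agent.Lib.Ideal.BlowUp

open Groth.Agent.Lib.Ideal.Comap Groth.Agent.Lib.Ideal.EffCartier

variable {X X' : Scheme.{u}} {𝓘 : X.IdealSheafData} {b : X' ⟶ X}

/-- A blow-up is an isomorphism off its centre. -/
theorem isIso_off_center (hb : BlowUp.IsBlowUp b 𝓘) : IsIso (b ∣_ 𝓘.support.compl) := by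
  set U : X.Opens := 𝓘.support.compl with hU
  obtain ⟨h, hh, -⟩ := hb.2 (U : Scheme.{u}) U.ι
    (isEffCartier_comap_of_disjoint U.ι fun y hy => y.2 hy)
  have hrange : Set.range h ⊆ (b ⁻¹ᵁ U : Set X') := by
    rintro _ ⟨y, rfl⟩
    change b (h y) ∈ U
    rw [← Scheme.Hom.comp_apply, hh]
    exact y.2
  set k := IsOpenImmersion.lift (b ⁻¹ᵁ U).ι h (by simpa using hrange) with hk
  have hkι : k ≫ (b ⁻¹ᵁ U).ι = h := IsOpenImmersion.lift_fac _ _ _
  refine ⟨k, ?_, ?_⟩
  · rw [← cancel_mono (b ⁻¹ᵁ U).ι, Category.assoc, hkι, Category.id_comp]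
    obtain ⟨h', -, huniq⟩ := hb.2 _ ((b ⁻¹ᵁ U).ι ≫ b)
      (isEffCartier_comap_of_disjoint _ fun y hy => y.2 hy)
    rw [huniq _ rfl]
    exact huniq _ (by simp only [Category.assoc, hh, morphismRestrict_ι])
  · rw [← cancel_mono U.ι, Category.assoc, morphismRestrict_ι, ← Category.assoc, hkι, hh,
      Category.id_comp]

/-- The stalk maps of a blow-up are isomorphisms off the exceptional divisor. -/
theorem isIso_stalkMap_off (hb : BlowUp.IsBlowUp b 𝓘) (x' : X')
    (hx' : x' ∉ (𝓘.comap b).support) : IsIso (b.stalkMap x') := by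
  rw [Scheme.IdealSheafData.support_comap] at hx'
  haveI := isIso_off_center hb
  exact ((MorphismProperty.isomorphisms CommRingCat).arrow_mk_iso_iff
    (morphismRestrictStalkMap b 𝓘.support.compl ⟨x', hx'⟩)).mp
    (by
      simp only [MorphismProperty.isomorphisms.iff]
      exact ((isIso_iff_isIso_stalkMap _).mp (isIso_off_center hb)).2 _)

theorem bijective_stalkMap_off (hb : BlowUp.IsBlowUp b 𝓘) (x' : X')
    (hx' : x' ∉ (𝓘.comap b).support) : Function.Bijective (b.stalkMap x') :=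
  haveI := isIso_stalkMap_off hb x' hx'
  ConcreteCategory.bijective_of_isIso (b.stalkMap x')

/-- Germwise regular sections pull back to germwise regular sections along a blow-up. -/
theorem germ_app_mem_nonZeroDivisors (hb : BlowUp.IsBlowUp b 𝓘) {U : X.Opens} (s : Γ(X, U))
    (hs : ∀ x (hx : x ∈ U), X.presheaf.germ U x hx s ∈ nonZeroDivisors (X.presheaf.stalk x))
    (x' : X') (hx' : x' ∈ b ⁻¹ᵁ U) :
    X'.presheaf.germ _ x' hx' (b.app U s) ∈ nonZeroDivisors (X'.presheaf.stalk x') := by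
  refine germ_mem_nonZeroDivisors_of_off hb.1 _ (fun y hy hys => ?_) x' hx'
  refine germ_app_mem_nonZeroDivisors_of_flat b s y hy ?_ (hs (b y) hy)
  exact RingHom.Flat.of_bijective (bijective_stalkMap_off hb y hys)

/-- Effective Cartier divisors pull back along a blow-up. -/
theorem isEffCartier_comap_blowUp (hb : BlowUp.IsBlowUp b 𝓘) {𝓓 : X.IdealSheafData}
    (hD : BlowUp.IsEffCartierIdeal 𝓓) : BlowUp.IsEffCartierIdeal (𝓓.comap b) :=
  isEffCartier_comap b hD fun U s hs _ x hx =>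
    germ_app_mem_nonZeroDivisors hb s (fun y hy => germ_mem_nonZeroDivisors U.2 hs y hy) x hx

/-- A blow-up of a reduced scheme is reduced. -/
theorem isReduced [IsReduced X] (hb : BlowUp.IsBlowUp b 𝓘) : IsReduced X' := by
  constructor
  intro U
  constructor
  intro t ht
  refine eq_zero_of_germ_eq_zero_off hb.1 t fun x hx hxs => ?_
  haveI : _root_.IsReduced (X.presheaf.stalk (b x)) := inferInstance
  obtain ⟨a, ha⟩ := (bijective_stalkMap_off hb x hxs).2 (X'.presheaf.germ U x hx t)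
  have hn : IsNilpotent (b.stalkMap x a) := ha ▸ ht.map (X'.presheaf.germ U x hx).hom
  rw [IsNilpotent.map_iff (bijective_stalkMap_off hb x hxs).1] at hn
  rw [← ha, hn.eq_zero, map_zero]

theorem isBlowUp_comp_mul {X'' : Scheme.{u}} {𝓙 : X.IdealSheafData} (hb : BlowUp.IsBlowUp b 𝓘)
    {b' : X'' ⟶ X'} (hb' : BlowUp.IsBlowUp b' (𝓙.comap b)) :
    BlowUp.IsBlowUp (b' ≫ b) (𝓘 * 𝓙) := by
  refine ⟨?_, fun Y g hg => ?_⟩
  · rw [comap_mul, Scheme.IdealSheafData.comap_comp, Scheme.IdealSheafData.comap_comp]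
    exact isEffCartier_mul (isEffCartier_comap_blowUp hb' hb.1) hb'.1
  · rw [comap_mul] at hg
    obtain ⟨h, hh, hhuniq⟩ := hb.2 Y g (isEffCartier_factor_left hg)
    obtain ⟨k, hk, hkuniq⟩ := hb'.2 Y h
      (by rw [← Scheme.IdealSheafData.comap_comp, hh]; exact isEffCartier_factor_right hg)
    refine ⟨k, by simp only; rw [← Category.assoc, hk, hh], fun k' hk' => hkuniq k' ?_⟩
    exact hhuniq _ (by simpa [Category.assoc] using hk')

theorem isBlowUp_mul_effCartier {𝓓 : X.IdealSheafData} (hD : BlowUp.IsEffCartierIdeal 𝓓)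
    (hb : BlowUp.IsBlowUp b 𝓘) : BlowUp.IsBlowUp b (𝓘 * 𝓓) := by
  refine ⟨?_, fun Y g hg => hb.2 Y g ?_⟩
  · rw [comap_mul]
    exact isEffCartier_mul hb.1 (isEffCartier_comap_blowUp hb hD)
  · rw [comap_mul] at hg
    exact isEffCartier_factor_left hg

theorem isBlowUp_flat_baseChange {X₁ : Scheme.{u}} (g : X₁ ⟶ X) [Flat g]
    (hb : BlowUp.IsBlowUp b 𝓘) : BlowUp.IsBlowUp (pullback.fst g b) (𝓘.comap g) := by
  refine ⟨?_, fun Y k hk => ?_⟩
  · rw [← Scheme.IdealSheafData.comap_comp, pullback.condition, Scheme.IdealSheafData.comap_comp]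
    exact isEffCartier_comap_of_flat _ hb.1
  · rw [← Scheme.IdealSheafData.comap_comp] at hk
    obtain ⟨h, hh, huniq⟩ := hb.2 Y (k ≫ g) hk
    refine ⟨pullback.lift k h hh.symm, pullback.lift_fst _ _ _, fun l hl => ?_⟩
    simp only at hl
    refine pullback.hom_ext (by rw [pullback.lift_fst, hl]) ?_
    rw [pullback.lift_snd]
    exact huniq _ (by simp only [Category.assoc, ← pullback.condition]; rw [← Category.assoc, hl])

end Groth.Agent.Lib.Ideal.BlowUp
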